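import Mathlib
import Groth.Agent.H06GenSub.CommSpread
import Groth.Agent.H7Flat.FibreCriterionFT
import Groth.Agent.H12AlgSp.LocPCancel
import Groth.Prelude.Def_MoreMor

/-!
A monomorphism whose generic fibre is a closed immersion is a closed immersion over a nonempty open.
-/

set_option autoImplicit false
set_option linter.style.haveILetI false
set_option linter.unusedSectionVars false
set_option backward.isDefEq.respectTransparency false

universe u

open CategoryTheory CategoryTheory.Limits MonoidalCategory CartesianMonoidalCategory MonObj GrpObj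
  AlgebraicGeometry TopologicalSpace

namespace Groth.Agent.H06Spread

open Groth.Agent.H06GenSub

variable {S : Scheme.{u}} [IsIntegral S]

/-- An open containing the generic fibre contains the fibres over a nonempty open. -/
theorem exists_open_subset_of_isOpen (X : Over S) [LocallyOfFinitePresentation X.hom] [QuasiCompact X.hom]
    [QuasiSeparated X.hom] (W : X.left.Opens) (hW : ∀ x, X.hom x = genericPoint S → x ∈ W) :
    ∃ U : S.Opens, genericPoint S ∈ U ∧ ∀ x, X.hom x ∈ U → x ∈ W := by
  obtain ⟨V, hV, hη, -⟩ := exists_isAffineOpen_mem_and_subset (x := genericPoint S) (U := ⊤) (Set.mem_univ _)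
  haveI : IsAffine V.toScheme := hV
  let π : (Red.bc V.ι X).left ⟶ X.left := pullback.fst X.hom V.ι
  let p : (Red.bc V.ι X).left ⟶ V.toScheme := (Red.bc V.ι X).hom
  haveI : LocallyOfFinitePresentation p := inferInstanceAs (LocallyOfFinitePresentation (pullback.snd X.hom V.ι))
  haveI : QuasiCompact p := inferInstanceAs (QuasiCompact (pullback.snd X.hom V.ι))
  haveI : QuasiSeparated p := inferInstanceAs (QuasiSeparated (pullback.snd X.hom V.ι))
  haveI : QuasiSeparatedSpace (Red.bc V.ι X).left := quasiSeparatedSpace_of_quasiSeparated p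
  have hπ : ∀ w, X.hom (π w) = V.ι (p w) := fun w => by
    rw [← Scheme.Hom.comp_apply, ← Scheme.Hom.comp_apply]
    exact congrArg (fun g : (Red.bc V.ι X).left ⟶ S => g w) pullback.condition
  let η' : V.toScheme := ⟨genericPoint S, hη⟩
  have hF : IsCompact (p ⁻¹' {η'}) := by
    haveI : QuasiCompact (V.toScheme.fromSpecResidueField η') := CommSpread.qc_fromSpecResidueField _ _
    haveI : CompactSpace (pullback p (V.toScheme.fromSpecResidueField η') : Scheme) :=
      QuasiCompact.compactSpace_of_compactSpace (pullback.snd p (V.toScheme.fromSpecResidueField η'))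
    rw [← p.range_fiberι η']
    exact isCompact_range (p.fiberι η').continuous
  have hsub : p ⁻¹' {η'} ⊆ π ⁻¹' (W : Set X.left) := fun w hw =>
    hW _ ((hπ w).trans (congrArg V.ι hw))
  obtain ⟨O, hOc, hO, hO'⟩ : ∃ O : Set (Red.bc V.ι X).left, IsCompact O ∧ IsOpen O ∧
      p ⁻¹' {η'} ⊆ O ∧ O ⊆ π ⁻¹' (W : Set X.left) := by
    choose A hA hxA hAW using fun w : p ⁻¹' {η'} =>
      exists_isAffineOpen_mem_and_subset (x := w.1) (U := π ⁻¹ᵁ W) (hsub w.2)
    let AS : (p ⁻¹' {η'} : Set (Red.bc V.ι X).left) → Set (Red.bc V.ι X).left :=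
      fun w => ((A w : (Red.bc V.ι X).left.Opens) : Set _)
    have hcov : (p ⁻¹' {η'} : Set (Red.bc V.ι X).left) ⊆ ⋃ w, AS w :=
      fun w hw => Set.mem_iUnion.mpr ⟨⟨w, hw⟩, hxA ⟨w, hw⟩⟩
    obtain ⟨t, ht⟩ := hF.elim_finite_subcover AS (fun w => (A w).2) hcov
    exact ⟨⋃ w ∈ t, AS w, t.finite_toSet.isCompact_biUnion fun w _ => (hA w).isCompact, isOpen_biUnion fun w _ => (A w).2,
      ht, fun x hx => by obtain ⟨w, _, hx⟩ := Set.mem_iUnion₂.mp hx; exact hAW w hx⟩
  have hbad : Topology.IsLocallyConstructible (p '' Oᶜ) :=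
    p.isLocallyConstructible_image (H7Lim.isLocallyConstructible_compl
      ((hOc.isConstructible hO).isLocallyConstructible))
  obtain ⟨N, hN, hηN, hsubN⟩ := CommSpread.isOpen_compl_of_notMem hbad η'
    (fun N hN hne => by
      obtain ⟨N', hN', rfl⟩ := isOpen_induced_iff.mp hN
      obtain ⟨x, hx⟩ := hne
      exact ((genericPoint_spec S).mem_open_set_iff hN').mpr ⟨x.1, trivial, hx⟩)
    (by rintro ⟨w, hw, he⟩; exact hw (hO'.1 he))
  refine ⟨V.ι ''ᵁ ⟨N, hN⟩, ⟨_, hηN, rfl⟩, fun z hz => ?_⟩
  obtain ⟨v, hv, hvz⟩ := hz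
  obtain ⟨w, hw1, hw2⟩ := Scheme.Pullback.exists_preimage_pullback (f := X.hom) (g := V.ι) z v hvz.symm
  by_contra h
  exact hsubN hv ⟨w, fun hwO => h (hw1 ▸ hO'.2 hwO), hw2⟩

theorem isField_stalk {s : S} (hs : s = genericPoint S) : IsField (S.presheaf.stalk s) := by
  subst hs
  exact Field.toIsField S.functionField

/-- A monomorphism which is a closed immersion on the generic fibre is a closed immersion over an open. -/
theorem exists_open_isClosedImmersion (X Y : Over S) [LocallyOfFinitePresentation X.hom] [QuasiCompact X.hom]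
    [QuasiSeparated X.hom] [LocallyOfFinitePresentation Y.hom] [QuasiCompact Y.hom] [QuasiSeparated Y.hom]
    (f : X ⟶ Y) [Mono f.left]
    (h : IsClosedImmersion ((Over.pullback (S.fromSpecResidueField (genericPoint S))).map f).left) :
    ∃ U : S.Opens, genericPoint S ∈ U ∧ ∀ V : S.Opens, V ≤ U →
      IsClosedImmersion ((Over.pullback V.ι).map f).left := by
  let j := S.fromSpecResidueField (genericPoint S)
  haveI : QuasiCompact j := CommSpread.qc_fromSpecResidueField S _
  haveI : Flat j := CommSpread.flat_fromSpecResidueField_genericPoint S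
  haveI : QuasiCompact f.left := by
    haveI : QuasiCompact (f.left ≫ Y.hom) := by rw [Over.w f]; infer_instance
    exact .of_comp f.left Y.hom
  let Z : Over S := Over.mk (f.left.imageι ≫ Y.hom)
  let i : Z ⟶ Y := Over.homMk f.left.imageι rfl
  let f' : X ⟶ Z := Over.homMk f.left.toImage (by
    show f.left.toImage ≫ f.left.imageι ≫ Y.hom = X.hom
    rw [Scheme.Hom.toImage_imageι_assoc, Over.w f])
  haveI : IsClosedImmersion i.left := inferInstanceAs (IsClosedImmersion f.left.imageι)
  have hfi : f' ≫ i = f := Over.OverMorphism.ext f.left.toImage_imageι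
  haveI : Mono f'.left := by
    haveI : Mono (f'.left ≫ i.left) := by rw [← Over.comp_left, hfi]; infer_instance
    exact mono_of_mono f'.left i.left
  haveI : LocallyOfFiniteType Z.hom := by rw [← Over.w i]; infer_instance
  haveI : QuasiCompact Z.hom := by rw [← Over.w i]; infer_instance
  haveI : LocallyOfFinitePresentation f'.left := by
    haveI : LocallyOfFinitePresentation (f'.left ≫ Z.hom) := by rw [Over.w f']; infer_instance
    exact H12AlgSp.lfp_of_comp f'.left Z.hom
  haveI : QuasiCompact f'.left := inferInstanceAs (QuasiCompact f.left.toImage)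
  let F := Over.pullback j
  haveI : IsSchemeTheoreticallyDominant f'.left := ⟨H17.ker_toImage f.left⟩
  haveI : IsSchemeTheoreticallyDominant (F.map f').left :=
    .of_isPullback (CommSpread.isPullback_map j f')
  haveI : IsClosedImmersion (F.map i).left := CommSpread.isClosedImmersion_map j i
  haveI : IsClosedImmersion (F.map f').left := by
    haveI : IsClosedImmersion ((F.map f').left ≫ (F.map i).left) := by
      rw [← Over.comp_left, ← F.map_comp, hfi]; exact h
    exact IsClosedImmersion.of_comp (F.map f').left (F.map i).left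
  haveI : IsIso (F.map f').left := IsClosedImmersion.isIso_iff_ker_eq_bot.2 (Scheme.Hom.ker_eq_bot _)
  -- flatness near the generic fibre
  let W : X.left.Opens := ⟨interior {x | (f'.left.stalkMap x).hom.Flat}, isOpen_interior⟩
  have hw : f'.left ≫ Z.hom = X.hom := Over.w f'
  haveI : LocallyOfFinitePresentation (f'.left ≫ Z.hom) := by rw [hw]; infer_instance
  have hWgen : ∀ x, X.hom x = genericPoint S → x ∈ W := by
    intro x hx
    have hs : Z.hom (f'.left x) = genericPoint S := by rw [← Scheme.Hom.comp_apply, hw]; exact hx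
    have hfg : ((f'.left ≫ Z.hom).stalkMap x).hom.Flat := by
      letI := (isField_stalk (S := S) (s := (f'.left ≫ Z.hom) x) (by rw [hw]; exact hx)).toField
      algebraize [((f'.left ≫ Z.hom).stalkMap x).hom]
      exact inferInstanceAs (Module.Flat _ _)
    have hiso : ∀ s, s = genericPoint S → IsIso (MoreMor.fiberMap f'.left Z.hom s) := by
      rintro s rfl
      have e : MoreMor.fiberMap f'.left Z.hom (genericPoint S) =
          (pullback.congrHom hw rfl).hom ≫ (F.map f').left := by
        apply pullback.hom_ext <;> simp [MoreMor.fiberMap, F, j, Scheme.Hom.fiberι, Scheme.Hom.fiberToSpecResidueField]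
      rw [e]
      infer_instance
    haveI := hiso _ hs
    obtain ⟨N, hN, hxN, hflat⟩ := H7Flat.exists_nhds_flat_of_fiberMap f'.left Z.hom x hfg
      (Flat.stalkMap (MoreMor.fiberMap f'.left Z.hom _) _)
    exact mem_interior.mpr ⟨N, fun x' hx' => (hflat x' hx').2, hN, hxN⟩
  obtain ⟨U₁, hU₁, hflat⟩ := exists_open_subset_of_isOpen X W hWgen
  -- surjectivity near the generic fibre
  obtain ⟨VZ, hVZ, -, hlfp⟩ := CommSpread.exists_flat_lfp Z
  haveI : LocallyOfFinitePresentation (Red.bc VZ.ι Z).hom :=
    CommSpread.of_restrict @LocallyOfFinitePresentation Z le_rfl hlfp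
  haveI : QuasiCompact (Red.bc VZ.ι Z).hom := inferInstanceAs (QuasiCompact (pullback.snd Z.hom VZ.ι))
  obtain ⟨U₂, hU₂, hsurj⟩ := CommSpread.exists_open_subset Z hVZ (E := Set.range f'.left)
    (by rw [← Set.image_univ]
        exact f'.left.isLocallyConstructible_image (IsRetrocompact.univ.isLocallyConstructible isOpen_univ))
    fun z hz => by
      obtain ⟨w, hw1, -⟩ := Scheme.Pullback.exists_preimage_pullback (f := Z.hom) (g := j) z
        (IsLocalRing.closedPoint _)
        (hz.trans ((Scheme.range_fromSpecResidueField _).le ⟨_, rfl⟩ : j _ = genericPoint S).symm)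
      obtain ⟨v, hv⟩ := (F.map f').left.surjective w
      refine ⟨pullback.fst X.hom j v, ?_⟩
      rw [← hw1, ← hv, ← Scheme.Hom.comp_apply, (CommSpread.isPullback_map j f').w, Scheme.Hom.comp_apply]
      rfl
  refine ⟨U₁ ⊓ U₂, ⟨hU₁, hU₂⟩, fun V hV => ?_⟩
  let FV := Over.pullback V.ι
  have hsq := CommSpread.isPullback_map V.ι f'
  haveI : IsOpenImmersion (pullback.fst Z.hom V.ι) := inferInstance
  haveI : IsOpenImmersion (pullback.fst X.hom V.ι) := inferInstance
  have hmem : ∀ (T : Over S) (t : (Red.bc V.ι T).left), T.hom (pullback.fst T.hom V.ι t) ∈ V := fun T t => by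
    rw [← Scheme.Hom.comp_apply, pullback.condition, Scheme.Hom.comp_apply]
    exact (pullback.snd T.hom V.ι t).2
  haveI : Flat (FV.map f').left := by
    haveI : Flat (pullback.fst X.hom V.ι ≫ f'.left) := Flat.of_stalkMap _ fun t => by
      rw [Scheme.Hom.stalkMap_comp, CommRingCat.hom_comp]
      have h1 : pullback.fst X.hom V.ι t ∈ {x | (f'.left.stalkMap x).hom.Flat} :=
        interior_subset (hflat _ (hV (hmem X t)).1)
      exact RingHom.Flat.comp h1
        (Flat.stalkMap (pullback.fst X.hom V.ι) t)
    have hs : IsPullback (𝟙 _) (FV.map f').left (pullback.fst X.hom V.ι ≫ f'.left) (pullback.fst Z.hom V.ι) :=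
      IsPullback.of_horiz_isIso_mono ⟨by rw [Category.id_comp, hsq.w]⟩
    exact MorphismProperty.of_isPullback (P := @Flat) hs inferInstance
  haveI : Surjective (FV.map f').left := ⟨fun z => by
    obtain ⟨x, hx⟩ := hsurj _ (hV (hmem Z z)).2
    obtain ⟨w, -, hw'⟩ := Scheme.Pullback.exists_preimage_pullback (f := f'.left) (g := pullback.fst Z.hom V.ι) x z hx
    refine ⟨hsq.isoPullback.inv w, ?_⟩
    exact (Scheme.Hom.comp_apply hsq.isoPullback.inv (FV.map f').left w).symm.trans
      ((congrArg (fun g : _ ⟶ (Red.bc V.ι Z).left => g w) hsq.isoPullback_inv_snd).trans hw')⟩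
  haveI : Mono (FV.map f').left := MorphismProperty.of_isPullback (P := MorphismProperty.monomorphisms _) hsq ‹_›
  haveI : QuasiCompact (FV.map f').left := MorphismProperty.of_isPullback (P := @QuasiCompact) hsq inferInstance
  haveI : IsIso (FV.map f').left := Flat.isIso_of_surjective_of_mono _
  haveI : IsClosedImmersion (FV.map i).left := CommSpread.isClosedImmersion_map _ _
  rw [← hfi, Functor.map_comp, Over.comp_left]
  infer_instance

end Groth.Agent.H06Spread
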