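import Mathlib
import Groth.Agent.H21Fix.EssFree
import Groth.Agent.H20EssFree.Basic
import Groth.Agent.H7Flat.GenericFreeness

/-!
Schemes of finite type over an integral base are essentially free over a nonempty open.
-/

set_option autoImplicit false
set_option linter.style.haveILetI false
set_option backward.isDefEq.respectTransparency false

universe u

open CategoryTheory CategoryTheory.Limits AlgebraicGeometry
open scoped TensorProduct

namespace Groth.Agent.H06Spread

/-- An affine chart with projective sections. -/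
theorem projective_chart {P : Scheme.{u}} {B C : Type u} [CommRing B] [CommRing C] [Algebra B C]
    (f : P ⟶ Spec (CommRingCat.of B)) (m : Spec (CommRingCat.of C) ⟶ P) [IsOpenImmersion m]
    (hm : m ≫ f = Spec.map (CommRingCat.ofHom (algebraMap B C))) [Module.Projective B C] :
    letI := (m.opensRange.ι ≫ f).appTop.hom.toAlgebra
    Module.Projective Γ(Spec (CommRingCat.of B), ⊤) Γ(m.opensRange, ⊤) := by
  letI alg := (m.opensRange.ι ≫ f).appTop.hom.toAlgebra
  let E : m.opensRange.toScheme ≅ Spec (CommRingCat.of C) := m.isoOpensRange.symm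
  have hE : E.hom ≫ Spec.map (CommRingCat.ofHom (algebraMap B C)) = m.opensRange.ι ≫ f := by
    rw [← hm, ← Category.assoc]
    congr 1
    show m.isoOpensRange.inv ≫ m = _
    simp
  let e : C ≃+* Γ(m.opensRange, ⊤) :=
    ((Scheme.ΓSpecIso (CommRingCat.of C)).symm ≪≫ asIso E.hom.appTop).commRingCatIsoToRingEquiv
  let ρ : B ≃+* Γ(Spec (CommRingCat.of B), ⊤) :=
    (Scheme.ΓSpecIso (CommRingCat.of B)).symm.commRingCatIsoToRingEquiv
  letI : Module B Γ(m.opensRange, ⊤) := Module.compHom _ ρ.toRingHom
  have he : ∀ b : B, e (algebraMap B C b) = (m.opensRange.ι ≫ f).appTop (ρ b) := fun b => by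
    show (CommRingCat.ofHom (algebraMap B C) ≫ (Scheme.ΓSpecIso (CommRingCat.of C)).inv ≫ E.hom.appTop) b =
      ((Scheme.ΓSpecIso (CommRingCat.of B)).inv ≫ (m.opensRange.ι ≫ f).appTop) b
    rw [← hE, ← Category.assoc (CommRingCat.ofHom _), Scheme.ΓSpecIso_inv_naturality, Category.assoc,
      ← Scheme.Hom.comp_appTop]
  have hsmul : ∀ (b : B) (x : C), e (b • x) = (m.opensRange.ι ≫ f).appTop (ρ b) * e x := fun b x => by
    rw [Algebra.smul_def, map_mul, he]
  let eL : C ≃ₗ[B] Γ(m.opensRange, ⊤) := { e.toAddEquiv with map_smul' := hsmul }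
  haveI := Module.Projective.of_equiv eL
  exact H21Fix.projective_of_ringEquiv ρ fun r x => rfl

/-- An element making an away free module free over every algebra in which it is invertible. -/
theorem free_of_isAwayFree {R : Type u} [CommRing R] {g : R} {M : Type u} [AddCommGroup M] [Module R M]
    (h : H7Flat.IsAwayFree g M) (R' : Type u) [CommRing R'] [Algebra R R'] (hg : IsUnit (algebraMap R R' g)) :
    Module.Free R' (R' ⊗[R] M) := by
  letI : Algebra (Localization.Away g) R' :=
    (IsLocalization.Away.lift g hg : Localization.Away g →+* R').toAlgebra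
  haveI : IsScalarTower R (Localization.Away g) R' :=
    .of_algebraMap_eq' (IsLocalization.Away.lift_comp g hg).symm
  haveI := h.free_baseChange
  exact Module.Free.of_equiv
    (TensorProduct.AlgebraTensorModule.cancelBaseChange R (Localization.Away g) R' R' M)

/-- Schemes of finite type over an integral scheme are essentially free over a nonempty open. -/
theorem exists_open_essFree {S X : Scheme.{u}} [IsIntegral S] (f : X ⟶ S) [LocallyOfFiniteType f] [QuasiCompact f] :
    ∃ U : S.Opens, genericPoint S ∈ U ∧ SGA3x.IsEssentiallyFree (pullback.snd f U.ι) := by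
  obtain ⟨W, hW, hηW, -⟩ := exists_isAffineOpen_mem_and_subset (x := genericPoint S) (U := ⊤) (Set.mem_univ _)
  haveI : Nonempty W := ⟨⟨_, hηW⟩⟩
  let R : Type u := Γ(S, W)
  haveI : IsDomain R := inferInstanceAs (IsDomain Γ(S, W))
  let ι₀ : Spec (CommRingCat.of R) ⟶ S := hW.fromSpec
  let X' := pullback f ι₀
  let f' : X' ⟶ Spec (CommRingCat.of R) := pullback.snd f ι₀
  haveI : CompactSpace X' := QuasiCompact.compactSpace_of_compactSpace f'
  let 𝒰 := X'.affineCover.finiteSubcover
  have hch : ∀ i, ∃ (B : Type u) (_ : CommRing B) (_ : Algebra R B) (u : Spec (CommRingCat.of B) ⟶ X'),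
      IsOpenImmersion u ∧ Algebra.FiniteType R B ∧
        u ≫ f' = Spec.map (CommRingCat.ofHom (algebraMap R B)) ∧ Set.range u = Set.range (𝒰.f i) := by
    intro i
    haveI : IsAffine (𝒰.X i) := inferInstance
    let u₀ : Spec Γ(𝒰.X i, ⊤) ⟶ X' := (𝒰.X i).isoSpec.inv ≫ 𝒰.f i
    obtain ⟨φ, hφ⟩ := Spec.map_surjective (u₀ ≫ f')
    letI : Algebra R Γ(𝒰.X i, ⊤) := φ.hom.toAlgebra
    have h : LocallyOfFiniteType (Spec.map φ) := by rw [hφ]; infer_instance
    refine ⟨Γ(𝒰.X i, ⊤), inferInstance, inferInstance, u₀, inferInstance,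
      (HasRingHomProperty.Spec_iff (P := @LocallyOfFiniteType)).mp h, hφ.symm, ?_⟩
    show Set.range ((𝒰.X i).isoSpec.inv ≫ 𝒰.f i) = _
    rw [Scheme.Hom.comp_base, TopCat.coe_comp, Set.range_comp,
      Set.range_eq_univ.mpr (𝒰.X i).isoSpec.inv.surjective, Set.image_univ]
  choose B instB algB u hu hft huf hrange using hch
  choose g hg0 hg using fun i => H7Flat.exists_isAwayFree_of_finiteType (R := R) (B i) (B i)
  haveI := Fintype.ofFinite 𝒰.I₀
  let gg : R := ∏ i, g i
  have hgg : gg ≠ 0 := Finset.prod_ne_zero_iff.mpr fun i _ => hg0 i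
  let U : S.Opens := S.basicOpen (gg : Γ(S, W))
  have hηU : genericPoint S ∈ U := by
    refine ((genericPoint_spec S).mem_open_set_iff U.2).mpr ?_
    simp only [Set.univ_inter]
    by_contra hne
    exact hgg ((basicOpen_eq_bot_iff gg).mp (TopologicalSpace.Opens.ext (Set.not_nonempty_iff_eq_empty.mp hne)))
  have hU : IsAffineOpen U := hW.basicOpen gg
  haveI : IsAffine U.toScheme := hU
  refine ⟨U, hηU, fun s => ?_⟩
  let R' : Type u := Γ(S, U)
  let res : CommRingCat.of R ⟶ CommRingCat.of R' := S.presheaf.map (homOfLE (S.basicOpen_le gg)).op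
  letI : Algebra R R' := res.hom.toAlgebra
  have hres : Spec.map res ≫ ι₀ = hU.fromSpec := hW.map_fromSpec hU _
  haveI : IsLocalization.Away gg R' := hW.isLocalization_basicOpen gg
  have hunit : ∀ i, IsUnit (algebraMap R R' (g i)) := fun i => by
    refine isUnit_of_dvd_unit ?_ (IsLocalization.Away.algebraMap_isUnit gg)
    exact map_dvd _ (Finset.dvd_prod_of_mem g (Finset.mem_univ i))
  let gS : Spec (CommRingCat.of R') ⟶ U.toScheme := hU.isoSpec.inv
  have hTι : gS ≫ U.ι = hU.fromSpec := hU.isoSpec_inv_ι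
  refine ⟨⊤, trivial, isAffineOpen_top _, Spec (CommRingCat.of R'), inferInstance,
    gS ≫ U.toScheme.topIso.inv, inferInstance, inferInstance, fun x => ?_⟩
  let q := (gS ≫ U.toScheme.topIso.inv) ≫ (⊤ : U.toScheme.Opens).ι
  have hq : q ≫ U.ι = Spec.map res ≫ ι₀ := by
    rw [hres, ← hTι]
    simp [q, gS]
  let P := pullback (pullback.snd f U.ι) q
  have hP : IsPullback (pullback.fst (pullback.snd f U.ι) q ≫ pullback.fst f U.ι)
      (pullback.snd (pullback.snd f U.ι) q) f (Spec.map res ≫ ι₀) := by
    rw [← hq]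
    exact (IsPullback.of_hasPullback _ _).paste_horiz (IsPullback.of_hasPullback _ _)
  let r : P ⟶ X' := pullback.lift (pullback.fst _ _ ≫ pullback.fst f U.ι)
    (pullback.snd _ _ ≫ Spec.map res) (by rw [hP.w, Category.assoc])
  have hr : IsPullback r (pullback.snd (pullback.snd f U.ι) q) f' (Spec.map res) := by
    refine IsPullback.of_right ?_ (pullback.lift_snd _ _ _) (IsPullback.of_hasPullback f ι₀)
    rw [pullback.lift_fst]
    exact hP
  obtain ⟨i, z, hz⟩ := 𝒰.exists_eq (r x)
  haveI := hu i
  letI := instB i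
  letI := algB i
  obtain ⟨w, hw⟩ : r x ∈ Set.range (u i) := by rw [hrange i]; exact ⟨z, hz⟩
  let C := R' ⊗[R] B i
  let e₁ := pullbackSpecIso R R' (B i)
  let m : Spec (CommRingCat.of C) ⟶ P := hr.lift (e₁.inv ≫ pullback.snd _ _ ≫ u i)
    (e₁.inv ≫ pullback.fst _ _) (by
      rw [Category.assoc, Category.assoc, huf i, Category.assoc]
      congr 1
      exact pullback.condition.symm)
  have hmsq : IsPullback m (e₁.inv ≫ pullback.snd _ _) r (u i) := by
    refine (IsPullback.of_right (h₁₂ := pullback.snd (pullback.snd f U.ι) q) (v₁₃ := Spec.map res) (h₂₂ := f')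
      ?_ (by rw [hr.lift_fst, Category.assoc]) hr.flip)
    rw [hr.lift_snd, huf i]
    exact (IsPullback.of_hasPullback (Spec.map (CommRingCat.ofHom (algebraMap R R')))
      (Spec.map (CommRingCat.ofHom (algebraMap R (B i))))).of_iso e₁ (Iso.refl _) (Iso.refl _) (Iso.refl _)
        (by simp) (by simp) (by simp; rfl) (by simp)
  haveI : IsOpenImmersion m := MorphismProperty.of_isPullback (P := @IsOpenImmersion) hmsq.flip inferInstance
  haveI : Module.Free R' C := free_of_isAwayFree (hg i) R' (hunit i)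
  refine ⟨m.opensRange, ?_, isAffineOpen_opensRange m, projective_chart _ m ?_⟩
  · obtain ⟨v, hv, -⟩ := Scheme.Pullback.exists_preimage_pullback (f := r) (g := u i) x w hw.symm
    refine ⟨hmsq.isoPullback.inv v, ?_⟩
    rw [← Scheme.Hom.comp_apply, hmsq.isoPullback_inv_fst]
    exact hv
  · rw [hr.lift_snd]
    exact pullbackSpecIso_inv_fst R R' (B i)

end Groth.Agent.H06Spread
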