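import Mathlib
import Groth.Agent.H06Spread.EssFree
import Groth.Agent.H06Spread.ClosedImm
import Groth.Agent.H19Grp.Diagonal
import Groth.Agent.H19Grp.AffineQuotient
import Groth.Agent.H12AlgSp.LocPCancel

/-!
Generic separatedness, essential freeness on smaller opens, finitely presented equalisers.
-/

set_option autoImplicit false
set_option linter.style.haveILetI false
set_option backward.isDefEq.respectTransparency false

universe u

open CategoryTheory CategoryTheory.Limits MonoidalCategory CartesianMonoidalCategory AlgebraicGeometry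
open scoped CategoryTheory.Obj

namespace Groth.Agent.H06Spread

/-- Essential freeness is invariant under isomorphisms of the source. -/
theorem essFree_of_iso {X X' S : Scheme.{u}} (e : X' ≅ X) (f : X ⟶ S) (hf : SGA3x.IsEssentiallyFree f) :
    SGA3x.IsEssentiallyFree (e.hom ≫ f) := by
  intro s
  obtain ⟨U, hs, hU, S', hS', g, hg, hgs, hV⟩ := hf s
  refine ⟨U, hs, hU, S', hS', g, hg, hgs, fun x => ?_⟩
  let q := g ≫ U.ι
  let φ : pullback (e.hom ≫ f) q ⟶ pullback f q :=
    pullback.map _ _ _ _ e.hom (𝟙 _) (𝟙 _) (by simp) (by simp)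
  obtain ⟨V, hxV, hVa, hVp⟩ := hV (φ x)
  refine ⟨φ ⁻¹ᵁ V, hxV, hVa.preimage φ, ?_⟩
  letI a1 := (V.ι ≫ pullback.snd f q).appTop.hom.toAlgebra
  letI a2 := ((φ ⁻¹ᵁ V).ι ≫ pullback.snd (e.hom ≫ f) q).appTop.hom.toAlgebra
  haveI : Module.Projective Γ(S', ⊤) Γ(V.toScheme, ⊤) := hVp
  have hc : (φ ⁻¹ᵁ V).ι ≫ pullback.snd (e.hom ≫ f) q = (φ ∣_ V) ≫ V.ι ≫ pullback.snd f q := by
    rw [morphismRestrict_ι_assoc]
    simp [φ]
  let er : Γ(V.toScheme, ⊤) ≃+* Γ((φ ⁻¹ᵁ V).toScheme, ⊤) := (asIso (φ ∣_ V).appTop).commRingCatIsoToRingEquiv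
  let eL : Γ(V.toScheme, ⊤) ≃ₗ[Γ(S', ⊤)] Γ((φ ⁻¹ᵁ V).toScheme, ⊤) :=
    { er.toAddEquiv with
      map_smul' := fun r x => by
        show (φ ∣_ V).appTop ((V.ι ≫ pullback.snd f q).appTop r * x) =
          ((φ ⁻¹ᵁ V).ι ≫ pullback.snd (e.hom ≫ f) q).appTop r * (φ ∣_ V).appTop x
        rw [map_mul, hc, Scheme.Hom.comp_appTop (φ ∣_ V)]
        rfl }
  exact Module.Projective.of_equiv eL

theorem essFree_of_le {S : Scheme.{u}} (X : Over S) {U V : S.Opens} (hVU : V ≤ U)
    (h : SGA3x.IsEssentiallyFree (pullback.snd X.hom U.ι)) :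
    SGA3x.IsEssentiallyFree (Red.bc V.ι X).hom := by
  let e : pullback X.hom V.ι ≅ pullback (pullback.snd X.hom U.ι) (S.homOfLE hVU) :=
    (pullback.congrHom rfl (S.homOfLE_ι hVU).symm) ≪≫ (pullbackLeftPullbackSndIso X.hom U.ι (S.homOfLE hVU)).symm
  have he : (Red.bc V.ι X).hom = e.hom ≫ pullback.snd (pullback.snd X.hom U.ι) (S.homOfLE hVU) := by
    simp [e]
  rw [he]
  exact essFree_of_iso e _ (H20EssFree.isEssentiallyFree_snd _ _ h)

/-- A group scheme over an integral base is separated over a nonempty open. -/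
theorem exists_open_isSeparated {S : Scheme.{u}} [IsIntegral S] (G : Over S) [GrpObj G]
    [LocallyOfFinitePresentation G.hom] [QuasiCompact G.hom] [QuasiSeparated G.hom] :
    ∃ U : S.Opens, genericPoint S ∈ U ∧ ∀ V : S.Opens, V ≤ U → IsSeparated (Red.bc V.ι G).hom := by
  haveI : Mono (MonObj.one (X := G)).left := by
    haveI : Mono ((MonObj.one (X := G)).left ≫ G.hom) := by rw [Over.w]; exact inferInstanceAs (Mono (𝟙 S))
    exact mono_of_mono _ G.hom
  let j := S.fromSpecResidueField (genericPoint S)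
  let GK := Red.bc j G
  haveI : LocallyOfFiniteType GK.hom := inferInstanceAs (LocallyOfFiniteType (pullback.snd G.hom j))
  haveI : IsSeparated GK.hom := H19Grp.AffineQuotient.isSeparated_of_grp GK
  haveI : LocallyOfFinitePresentation (𝟙_ (Over S)).hom := inferInstanceAs (LocallyOfFinitePresentation (𝟙 S))
  haveI : QuasiCompact (𝟙_ (Over S)).hom := inferInstanceAs (QuasiCompact (𝟙 S))
  haveI : QuasiSeparated (𝟙_ (Over S)).hom := inferInstanceAs (QuasiSeparated (𝟙 S))
  haveI hgen : IsClosedImmersion ((Over.pullback j).map (MonObj.one (X := G))).left := by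
    haveI : IsIso ((𝟙_ (Over S)).hom) := inferInstanceAs (IsIso (𝟙 S))
    haveI : IsIso (Red.bc j (𝟙_ (Over S))).hom := inferInstanceAs (IsIso (pullback.snd (𝟙_ (Over S)).hom j))
    haveI : IsClosedImmersion (((Over.pullback j).map (MonObj.one (X := G))).left ≫ GK.hom) := by
      rw [Over.w ((Over.pullback j).map (MonObj.one (X := G)))]
      infer_instance
    exact IsClosedImmersion.of_comp _ GK.hom
  obtain ⟨U, hU, hcl⟩ := exists_open_isClosedImmersion (𝟙_ (Over S)) G (MonObj.one (X := G)) hgen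
  refine ⟨U, hU, fun V hV => (H19Grp.isSeparated_iff_isClosedImmersion_one _).mpr ?_⟩
  haveI := hcl V hV
  rw [Functor.obj.η_def, Over.comp_left]
  haveI : IsIso (Functor.LaxMonoidal.ε (Over.pullback V.ι)).left :=
    inferInstanceAs (IsIso ((Over.forget _).map (Functor.LaxMonoidal.ε (Over.pullback V.ι))))
  infer_instance

open MonObj in
theorem exists_equalizer_fp {S : Scheme.{u}} {Y T W : Over S}
    (hf : SGA3x.IsEssentiallyFree (pullback.snd Y.hom T.hom)) [IsSeparated W.hom] [LocallyOfFiniteType W.hom] [QuasiCompact Y.hom] (φ ψ : Y ⊗ T ⟶ W) :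
    ∃ (Z : Over S) (j : Z ⟶ T), IsClosedImmersion j.left ∧ LocallyOfFinitePresentation j.left ∧
      ∀ (X : Over S) (g : X ⟶ T), (∃ z : X ⟶ Z, z ≫ j = g) ↔
        ∀ (X' : Over S) (x : X' ⟶ X) (h : X' ⟶ Y), lift h (x ≫ g) ≫ φ = lift h (x ≫ g) ≫ ψ := by
  let f : (Y ⊗ T).left ⟶ T.left := pullback.snd Y.hom T.hom
  let j₀ := pullback.fst (lift φ ψ).left (pullback.diagonal W.hom)
  obtain ⟨Z, t, ht, hiff, hfp⟩ := Groth.Agent.S4101.result T.left (Y ⊗ T).left _ f hf j₀
  have hj : LocallyOfFinitePresentation j₀ := by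
    haveI : LocallyOfFinitePresentation (pullback.diagonal W.hom ≫ pullback.fst W.hom W.hom) := by
      rw [pullback.diagonal_fst]; infer_instance
    haveI : LocallyOfFinitePresentation (pullback.diagonal W.hom) :=
      H12AlgSp.lfp_of_comp (pullback.diagonal W.hom) (pullback.fst W.hom W.hom)
    exact MorphismProperty.pullback_fst (P := @LocallyOfFinitePresentation) _ _ ‹_›
  have hlfp : LocallyOfFinitePresentation t :=
    hfp (inferInstanceAs (QuasiCompact (pullback.snd Y.hom T.hom))) hj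
  refine ⟨Over.mk (t ≫ T.hom), Over.homMk t, ht, hlfp, fun X g => ?_⟩
  have key : (∃ z : X.left ⟶ Z, z ≫ t = g.left) ↔ ∃ z : X ⟶ Over.mk (t ≫ T.hom), z ≫ Over.homMk t = g :=
    ⟨fun ⟨z, hz⟩ => ⟨Over.homMk z (by change z ≫ t ≫ T.hom = X.hom; rw [← Category.assoc, hz]; exact Over.w g),
      Over.OverMorphism.ext hz⟩, fun ⟨z, hz⟩ => ⟨z.left, congrArg (fun m : X ⟶ T => m.left) hz⟩⟩
  rw [← key, hiff]
  have hd : ∀ {Q : Over S} (a b : Q ⟶ W) (k : Q.left ⟶ W.left),
      k ≫ pullback.diagonal W.hom = (lift a b).left ↔ k = a.left ∧ k = b.left := fun {Q} a b k => by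
    have ha : (lift a b).left ≫ pullback.fst W.hom W.hom = a.left := congrArg (fun m : Q ⟶ W => m.left) (lift_fst a b)
    have hb : (lift a b).left ≫ pullback.snd W.hom W.hom = b.left := congrArg (fun m : Q ⟶ W => m.left) (lift_snd a b)
    refine ⟨fun h => ⟨?_, ?_⟩, fun ⟨h1, h2⟩ => ?_⟩
    · rw [← ha, ← h, Category.assoc, pullback.diagonal_fst, Category.comp_id]
    · rw [← hb, ← h, Category.assoc, pullback.diagonal_snd, Category.comp_id]
    · apply pullback.hom_ext
      · rw [Category.assoc, pullback.diagonal_fst, Category.comp_id]; exact h1.trans ha.symm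
      · rw [Category.assoc, pullback.diagonal_snd, Category.comp_id]; exact h2.trans hb.symm
  constructor
  · intro hi X' x y
    let b : X'.left ⟶ pullback f g.left :=
      pullback.lift (lift y (x ≫ g)).left x.left (congrArg (fun m : X' ⟶ T => m.left) (lift_snd y (x ≫ g)))
    let k := b ≫ inv (pullback.snd j₀ (pullback.fst f g.left)) ≫ pullback.fst j₀ _ ≫
      pullback.snd (lift φ ψ).left (pullback.diagonal W.hom)
    have hk : k ≫ pullback.diagonal W.hom = (lift y (x ≫ g) ≫ lift φ ψ).left := by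
      simp only [k, Category.assoc]
      rw [← pullback.condition (f := (lift φ ψ).left), ← Category.assoc (pullback.fst j₀ _),
        pullback.condition (f := j₀), Category.assoc, IsIso.inv_hom_id_assoc, ← Category.assoc, pullback.lift_fst]
      rfl
    rw [comp_lift] at hk
    obtain ⟨h1, h2⟩ := (hd _ _ k).mp hk
    exact Over.OverMorphism.ext (h1.symm.trans h2)
  · intro h
    let X' : Over S := Over.mk (pullback.snd f g.left ≫ X.hom)
    let x : X' ⟶ X := Over.homMk (pullback.snd f g.left) rfl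
    let a' : X' ⟶ Y ⊗ T := Over.homMk (pullback.fst f g.left) (by
      change pullback.fst f g.left ≫ pullback.fst Y.hom T.hom ≫ Y.hom = pullback.snd f g.left ≫ X.hom
      rw [pullback.condition (f := Y.hom) (g := T.hom), ← Over.w g]
      exact (Category.assoc _ _ _).symm.trans
        ((congrArg (· ≫ T.hom) (pullback.condition (f := f) (g := g.left))).trans (Category.assoc _ _ _)))
    have e : lift (a' ≫ fst Y T) (x ≫ g) = a' := by
      rw [show x ≫ g = a' ≫ snd Y T from Over.OverMorphism.ext (pullback.condition (f := f) (g := g.left)).symm,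
        ← comp_lift, lift_fst_snd, Category.comp_id]
    have h0 := h X' x (a' ≫ fst Y T)
    rw [e] at h0
    have hk : (a' ≫ φ).left ≫ pullback.diagonal W.hom = pullback.fst f g.left ≫ (lift φ ψ).left :=
      ((hd (a' ≫ φ) (a' ≫ ψ) (a' ≫ φ).left).mpr ⟨rfl, congrArg (fun m : X' ⟶ W => m.left) h0⟩).trans
        (congrArg (fun m : X' ⟶ W ⊗ W => m.left) (comp_lift a' φ ψ).symm)
    haveI : IsSplitEpi (pullback.snd j₀ (pullback.fst f g.left)) :=
      IsSplitEpi.mk' ⟨pullback.lift (pullback.lift (pullback.fst f g.left) _ hk.symm) (𝟙 _)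
        (by rw [Category.id_comp]; exact pullback.lift_fst _ _ _), pullback.lift_snd _ _ _⟩
    exact isIso_of_mono_of_isSplitEpi _

end Groth.Agent.H06Spread
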